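import Cfsg.Agent.Lib.Spor.UFourThree.K9
import Cfsg.Agent.Lib.Spor.UFourThree.Data
import Cfsg.Agent.Lib.Grp.SchurM.TailChain
import Cfsg.Agent.Lib.Fus.PSUFourTwo
import Cfsg.Agent.Lib.Spor.SUFieldCongr
import Cfsg.Agent.S0280

/-! `PSU₄(3)` acting on its 280 isotropic points, with three generators. -/

set_option autoImplicit false
set_option maxRecDepth 100000
set_option maxHeartbeats 4000000

open Cfsg Matrix Cfsg.Agent.Spor.Cos Cfsg.Agent.Classical Cfsg.Agent.Grp.SchurM.Tails

namespace Cfsg.Agent.Spor.UFourThree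

/-- The special unitary group. -/
abbrev SU43 : Type := ↥(SU 4 K9 3)

/-- The group. -/
abbrev G43 : Type := PSU 4 K9 3

/-- The vector of a number. -/
def vecOf (c : ℕ) : Fin 4 → K9 := ![K9.of (c % 9), K9.of (c / 9 % 9), K9.of (c / 81 % 9), K9.of (c / 729 % 9)]

theorem exists_vecOf (v : Fin 4 → K9) : ∃ c < 6561, vecOf c = v := by
  obtain ⟨a, ha, hva⟩ := K9.exists_of (v 0)
  obtain ⟨b, hb, hvb⟩ := K9.exists_of (v 1)
  obtain ⟨c, hc, hvc⟩ := K9.exists_of (v 2)
  obtain ⟨d, hd, hvd⟩ := K9.exists_of (v 3)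
  refine ⟨a + 9 * b + 81 * c + 729 * d, by omega, funext fun i => ?_⟩
  fin_cases i
  · show K9.of ((a + 9 * b + 81 * c + 729 * d) % 9) = v 0
    rw [show (a + 9 * b + 81 * c + 729 * d) % 9 = a by omega, hva]
  · show K9.of ((a + 9 * b + 81 * c + 729 * d) / 9 % 9) = v 1
    rw [show (a + 9 * b + 81 * c + 729 * d) / 9 % 9 = b by omega, hvb]
  · show K9.of ((a + 9 * b + 81 * c + 729 * d) / 81 % 9) = v 2
    rw [show (a + 9 * b + 81 * c + 729 * d) / 81 % 9 = c by omega, hvc]
  · show K9.of ((a + 9 * b + 81 * c + 729 * d) / 729 % 9) = v 3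
    rw [show (a + 9 * b + 81 * c + 729 * d) / 729 % 9 = d by omega, hvd]

/-- A point. -/
noncomputable def pv (i : ℕ) : Fin 4 → K9 := vecOf (ptT.at i)

/-- The index of a vector. -/
noncomputable def idxOf (v : Fin 4 → K9) : ℕ := idxT.at ((v 0).v.1 + 9 * (v 1).v.1 + 81 * (v 2).v.1 + 729 * (v 3).v.1) % 512

/-- The form on a vector. -/
def normK (v : Fin 4 → K9) : K9 :=
  v 0 * (v 0 * v 0 * v 0) + v 1 * (v 1 * v 1 * v 1) + v 2 * (v 2 * v 2 * v 2) + v 3 * (v 3 * v 3 * v 3)

theorem hermForm_eq (v : Fin 4 → K9) : hermForm 4 K9 3 v v = normK v := by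
  simp only [hermForm, Fin.sum_univ_four, normK]
  ring

/-- A vector is a multiple of a point. -/
noncomputable def isMult (v w : Fin 4 → K9) (c : K9) : Bool :=
  decide (v 0 = c * w 0) && decide (v 1 = c * w 1) && decide (v 2 = c * w 2) && decide (v 3 = c * w 3)

theorem eq_of_isMult {v w : Fin 4 → K9} {c : K9} (h : isMult v w c = true) : v = c • w := by
  simp only [isMult, Bool.and_eq_true, decide_eq_true_eq] at h
  obtain ⟨⟨⟨h0, h1⟩, h2⟩, h3⟩ := h
  funext i
  fin_cases i <;> assumption

/-- An isotropic vector is found in the table. -/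
noncomputable def chkCode (c : ℕ) : Bool :=
  decide (c = 0) || !decide (normK (vecOf c) = 0) ||
    force (idxT.at c) fun e => Nat.blt (e % 512) 280 && !decide (K9.of (e / 512) = 0) &&
      isMult (vecOf c) (pv (e % 512)) (K9.of (e / 512))

/-- A point is isotropic, with first coordinate not zero equal to one, and is found at its own index. -/
noncomputable def chkPt (i : ℕ) : Bool :=
  decide (normK (pv i) = 0) && (List.range 4).any (fun k => decide (pv i (Fin.ofNat 4 k) ≠ 0)) &&
    (List.range 9).all fun c => decide (c = 0) ||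
      Nat.beq (idxT.at ((K9.of c * pv i 0).v.1 + 9 * (K9.of c * pv i 1).v.1 + 81 * (K9.of c * pv i 2).v.1 +
        729 * (K9.of c * pv i 3).v.1) % 512) i

theorem code_ok : ∀ c < 6561, chkCode c = true :=
  of_blocks (size := 821) (b := 8) (by decide) (by decide) fun j hj => by interval_cases j <;> decide +kernel

theorem pt_ok : ∀ i < 280, chkPt i = true :=
  of_blocks (size := 70) (b := 4) (by decide) (by decide) fun j hj => by interval_cases j <;> decide +kernel

theorem pt_form (i : Fin 280) : hermForm 4 K9 3 (pv i) (pv i) = 0 := by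
  have h := pt_ok i.1 i.2
  simp only [chkPt, Bool.and_eq_true, decide_eq_true_eq] at h
  rw [hermForm_eq]; exact h.1.1

theorem pt_ne (i : Fin 280) : pv i ≠ 0 := by
  have h := pt_ok i.1 i.2
  simp only [chkPt, Bool.and_eq_true, List.any_eq_true, decide_eq_true_eq] at h
  obtain ⟨⟨-, k, -, hk⟩, -⟩ := h
  exact fun e => hk (congrFun e _)

theorem pt_unique (i j : Fin 280) (c : K9) (h : pv j = c • pv i) : j = i := by
  obtain ⟨n, hn, rfl⟩ := K9.exists_of c
  have hi := pt_ok i.1 i.2
  have hj := pt_ok j.1 j.2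
  simp only [chkPt, Bool.and_eq_true, List.all_eq_true, List.mem_range, Bool.or_eq_true, decide_eq_true_eq] at hi hj
  have h1 := hj.2 1 (by norm_num)
  rcases h1 with h1 | h1
  · exact absurd h1 one_ne_zero
  rcases hi.2 n hn with rfl | h2
  · exact absurd (h.trans (zero_smul _ _)) (pt_ne j)
  have e : ∀ k, K9.of 1 * pv j k = K9.of n * pv i k := fun k => by
    rw [h]; show (1 : K9) * (K9.of n * pv i k) = _; rw [one_mul]
  rw [e 0, e 1, e 2, e 3] at h1
  exact Fin.ext ((Nat.eq_of_beq_eq_true h1).symm.trans (Nat.eq_of_beq_eq_true h2))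

theorem pt_exists (v : Fin 4 → K9) (hv : v ≠ 0 ∧ hermForm 4 K9 3 v v = 0) :
    ∃ i : Fin 280, ∃ c : K9, c ≠ 0 ∧ v = c • pv i := by
  obtain ⟨n, hn, rfl⟩ := exists_vecOf v
  have h := code_ok n hn
  simp only [chkCode, force_eq, Bool.or_eq_true, Bool.and_eq_true, Bool.not_eq_true', decide_eq_true_eq,
    decide_eq_false_iff_not] at h
  rw [hermForm_eq] at hv
  rcases h with (rfl | h) | ⟨⟨hlt, hne⟩, hm⟩
  · exact absurd (by decide +kernel : vecOf 0 = 0) hv.1
  · exact absurd hv.2 h
  · exact ⟨⟨_, Nat.le_of_ble_eq_true hlt⟩, _, hne, eq_of_isMult hm⟩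

/-- The matrix of a generator. -/
def genM (s : ℕ) : Matrix (Fin 4) (Fin 4) K9 :=
  Matrix.of fun i j => K9.of ((genRows.getD s []).getD (4 * i.1 + j.1) 0)

theorem genM_det : ∀ s < 3, (genM s).det = 1 := by decide +kernel

theorem genM_unit : ∀ s < 3, ∀ i j : Fin 4,
    genM s 0 i * genM s 0 j ^ 3 + genM s 1 i * genM s 1 j ^ 3 + genM s 2 i * genM s 2 j ^ 3 +
      genM s 3 i * genM s 3 j ^ 3 = if i = j then 1 else 0 := by decide +kernel

/-- The generators of the special unitary group. -/
noncomputable def sT (s : ℕ) : SU43 :=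
  if h : s < 3 then suMk K9.card_eq (genM s) (genM_det s h) (by
    ext i j
    rw [Matrix.mul_apply, Fin.sum_univ_four, Matrix.one_apply]
    simpa [qFrob_apply] using genM_unit s h i j) else 1

theorem suVal_sT {s : ℕ} (h : s < 3) : suVal (sT s) = genM s := by rw [sT, dif_pos h]; rfl

/-- The generators. -/
noncomputable def gT (s : ℕ) : G43 := suToPSU 4 K9 3 (sT s)

theorem gT_out (s : ℕ) (hs : 3 ≤ s) : gT s = 1 := by rw [gT, sT, dif_neg (by omega), map_one]

/-- The matrices of the special unitary group. -/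
def suHom : SU43 →* Matrix (Fin 4) (Fin 4) K9 where
  toFun := suVal
  map_one' := rfl
  map_mul' := suVal_mul

theorem act_inv : ∀ p < 280, actA.chkInv p = true :=
  of_blocks (size := 70) (b := 4) (by decide) (by decide) fun j hj => by interval_cases j <;> decide +kernel

/-- A generator moves a point as in the table. -/
noncomputable def chkMove (i : ℕ) : Bool :=
  (List.range 3).all fun s => (List.range 9).any fun c =>
    isMult (genM s *ᵥ pv i) (pv (actA.im i s)) (K9.of c)

theorem move_ok : ∀ i < 280, chkMove i = true :=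
  of_blocks (size := 35) (b := 8) (by decide) (by decide) fun j hj => by interval_cases j <;> decide +kernel

/-- The coefficients of the fifth point of the frame. -/
def frameCo : Fin 4 → K9 := ![K9.of 8, K9.of 3, K9.of 7, K9.of 7]

/-- The inverse of the matrix of the first four points of the frame. -/
def frameMat : Matrix (Fin 4) (Fin 4) K9 := Matrix.of fun i j => K9.of (frameInv.getD (4 * i.1 + j.1) 0)

/-- The matrix of the first four points of the frame. -/
noncomputable def framePts : Matrix (Fin 4) (Fin 4) K9 := Matrix.of fun i j => pv (frame.getD j.1 0) i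

theorem frame_ok : framePts * frameMat = 1 ∧ frameMat * framePts = 1 ∧ framePts *ᵥ frameCo = pv (frame.getD 4 0) ∧
    (∀ k, frameCo k ≠ 0) ∧ ∀ k < 5, frame.getD k 0 < 280 := by decide +kernel

theorem exists_hom : ∃ π : G43 →* Equiv.Perm (Fin actA.N),
    actA.Hom gT π ∧ ∀ y : G43, (∀ q : Fin actA.N, (q : ℕ) ∈ frame → π y q = q) → y = 1 := by
  obtain ⟨f, hf⟩ := Fus.PSUFourTwo.exists_perm_hom suHom (fun i : Fin 280 => pv i)
    (fun v => v ≠ 0 ∧ hermForm 4 K9 3 v v = 0) (fun g v hv => ⟨fun e => hv.1 (by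
        have h1 := congrArg (fun w => suHom g⁻¹ *ᵥ w) e
        simp only [Matrix.mulVec_mulVec, ← map_mul, inv_mul_cancel, map_one, Matrix.one_mulVec,
          Matrix.mulVec_zero] at h1
        exact h1), by rw [← hv.2]; exact g.2 v v⟩)
    (fun i => ⟨pt_ne i, pt_form i⟩) pt_exists pt_unique
  have hz : Subgroup.center SU43 ≤ f.ker := fun z hz => by
    obtain ⟨c, hc⟩ := suVal_scalar_of_mem_center K9.card_eq hz
    refine MonoidHom.mem_ker.2 (Equiv.ext fun i => ?_)
    refine Fus.PSUFourTwo.perm_eq suHom _ pt_unique hf (d := c) ?_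
    show suVal z *ᵥ pv i = _
    rw [hc]
    funext k
    simp [Matrix.scalar_apply, Matrix.mulVec_diagonal]
  refine ⟨QuotientGroup.lift _ f hz, ⟨act_inv, fun s => Equiv.ext fun p => ?_⟩, fun y hy => ?_⟩
  · show f (sT s) p = _
    rcases Nat.lt_or_ge s 3 with hs | hs
    · have hm := List.all_eq_true.1 (move_ok p.1 p.2) s (List.mem_range.2 hs)
      obtain ⟨c, -, hc⟩ := List.any_eq_true.1 hm
      refine Fus.PSUFourTwo.perm_eq suHom _ pt_unique hf (d := K9.of c) ?_
      show suVal (sT s) *ᵥ pv p.1 = _
      rw [suVal_sT hs, eq_of_isMult hc, actA.perm_apply act_inv hs]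
    · rw [sT, dif_neg (by omega), map_one, actA.perm_out s hs]
      rfl
  · induction y using QuotientGroup.induction_on with
    | _ g =>
      obtain ⟨f1, f2, f3, f4, f5⟩ := frame_ok
      have hfix : ∀ k < 5, ∃ c : K9, suVal g *ᵥ pv (frame.getD k 0) = c • pv (frame.getD k 0) := fun k hk => by
        obtain ⟨c, -, hc⟩ := hf g ⟨frame.getD k 0, f5 k hk⟩
        have hq := hy ⟨frame.getD k 0, f5 k hk⟩ (by
          show frame.getD k 0 ∈ frame
          rw [List.getD_eq_getElem _ _ (hk : k < frame.length)]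
          exact List.getElem_mem _)
        rw [show f g ⟨frame.getD k 0, f5 k hk⟩ = ⟨frame.getD k 0, f5 k hk⟩ from hq] at hc
        exact ⟨c, hc⟩
      choose c hc using hfix
      let d : Fin 4 → K9 := fun j => c j.1 (by omega)
      have e1 : suVal g * framePts = framePts * Matrix.diagonal d := by
        ext i j
        rw [Matrix.mul_diagonal]
        have := congrFun (hc j.1 (by omega)) i
        simp only [Matrix.mulVec, dotProduct, Pi.smul_apply, smul_eq_mul] at this
        rw [Matrix.mul_apply]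
        exact this.trans (mul_comm _ _)
      have e2 : Matrix.diagonal d *ᵥ frameCo = c 4 (by norm_num) • frameCo := by
        have h4 := hc 4 (by norm_num)
        rw [← f3, Matrix.mulVec_mulVec, e1, ← Matrix.mulVec_mulVec, ← Matrix.mulVec_smul] at h4
        have := congrArg (fun v => frameMat *ᵥ v) h4
        simpa only [Matrix.mulVec_mulVec, f2, ← Matrix.mul_assoc, Matrix.one_mul, Matrix.one_mulVec] using this
      have hd : d = fun _ => c 4 (by norm_num) := funext fun k => by
        have := congrFun e2 k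
        rw [Matrix.mulVec_diagonal, Pi.smul_apply, smul_eq_mul] at this
        exact mul_right_cancel₀ (f4 k) this
      have e3 : suVal g = Matrix.scalar (Fin 4) (c 4 (by norm_num)) := by
        have := congrArg (· * frameMat) e1
        simp only [Matrix.mul_assoc, f1, Matrix.mul_one, hd] at this
        rw [this, ← Matrix.scalar_apply, ← Matrix.mul_assoc,
          ← (Matrix.scalar_commute _ (fun r => Commute.all _ r) framePts).eq, Matrix.mul_assoc, f1, Matrix.mul_one]
      exact (QuotientGroup.eq_one_iff g).2 (mem_center_of_suVal_scalar e3)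

/-- The action. -/
noncomputable def piA : G43 →* Equiv.Perm (Fin actA.N) := exists_hom.choose

theorem homA : actA.Hom gT piA := exists_hom.choose_spec.1

theorem det (y : G43) (h : ∀ q : Fin actA.N, (q : ℕ) ∈ frame → piA y q = q) : y = 1 := exists_hom.choose_spec.2 y h

theorem card_G43 : Nat.card G43 = 3265920 := by
  show Nat.card (PSU 4 K9 3) = 3265920
  have h := Cfsg.Agent.S0280.result (F := K9) (q := 3) K9.card_eq 4 (by norm_num)
  norm_num [Finset.prod_range_succ, Nat.even_iff] at h
  omega

/-- The generators as a certificate. -/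
def genTab : TableCert where
  P := ⟨2, 3, [], []⟩
  ews := [[0], [1], [2]]
  gws := []
  C := []
  K := ⟨[], 0, []⟩
  els := []

theorem levels_ok : genTab.chkLevels actA levels [] = true := by decide +kernel

theorem gen : Subgroup.closure {x | ∃ s < 3, gT s = x} = ⊤ := by
  have : Finite G43 := Nat.finite_of_card_ne_zero (by rw [card_G43]; norm_num)
  refine Subgroup.eq_top_of_le_card _ ?_
  have h := TableCert.le_card_of_levels (S := genTab) homA (by decide +kernel) levels [] levels_ok
    (Subgroup.closure {x | ∃ s < 3, gT s = x}) fun x hx _ => by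
      refine (Subgroup.closure_le _).2 ?_ hx
      rintro _ ⟨k, hk, rfl⟩
      refine Subgroup.subset_closure ⟨k, hk, ?_⟩
      have hk' : k < 3 := hk
      show gT k = ev gT (genTab.ews.getD k [])
      interval_cases k <;> exact (mul_one _).symm
  rw [card_G43]
  exact le_trans (by decide +kernel) h

end Cfsg.Agent.Spor.UFourThree
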