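import Cfsg.Agent.Lib.Grp.SchurM.SubsetAct
import Cfsg.Agent.Lib.Spor.UFourThree.Group
import Cfsg.Agent.Lib.Spor.UFourThree.SignData

/-! The actions on the 112 lines, on 126 sets of forty lines and on one point. -/

set_option autoImplicit false
set_option maxRecDepth 100000
set_option maxHeartbeats 4000000

open Cfsg.Agent.Spor.Cos Cfsg.Agent.Grp.SchurM

namespace Cfsg.Agent.Spor.UFourThree

/-- The points of a line. -/
noncomputable def linePts (i : ℕ) : List ℕ := (List.range 10).map fun k => (ptsL.at i >>> (16 * k)) % 65536

/-- The lines of a set. -/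
noncomputable def setPts (i : ℕ) : List ℕ := (List.range 40).map fun k => (ptsD.at i >>> (8 * k)) % 256

theorem lineInv : ∀ i < 112, actL.chkInv i = true :=
  of_blocks (size := 56) (b := 2) (by decide) (by decide) fun j hj => by interval_cases j <;> decide +kernel

theorem lineChk : ∀ i < 112, chkSubset actA actL setL linePts i = true :=
  of_blocks (size := 28) (b := 4) (by decide) (by decide) fun j hj => by interval_cases j <;> decide +kernel

theorem exists_homL : ∃ θ : G43 →* Equiv.Perm (Fin actL.N), actL.Hom gT θ :=
  exists_subset_hom homA rfl gen gT_out lineInv lineChk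

theorem setInv : ∀ i < 126, actD.chkInv i = true :=
  of_blocks (size := 63) (b := 2) (by decide) (by decide) fun j hj => by interval_cases j <;> decide +kernel

theorem setChk : ∀ i < 126, chkSubset actL actD setD setPts i = true :=
  of_blocks (size := 21) (b := 6) (by decide) (by decide) fun j hj => by interval_cases j <;> decide +kernel

theorem exists_homD : ∃ θ : G43 →* Equiv.Perm (Fin actD.N), actD.Hom gT θ := by
  obtain ⟨θ, h⟩ := exists_homL
  exact exists_subset_hom h rfl gen gT_out setInv setChk

theorem homOne : actOne.Hom gT (1 : G43 →* Equiv.Perm (Fin actOne.N)) := by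
  refine ⟨by decide +kernel, fun s => Equiv.ext fun p => ?_⟩
  have : Subsingleton (Fin actOne.N) := inferInstanceAs (Subsingleton (Fin 1))
  exact Subsingleton.elim _ _

end Cfsg.Agent.Spor.UFourThree
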