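import Mathlib

/-! A field with nine elements on the numbers below nine, the number `x + 3 y` standing for `x + y i`. -/

set_option autoImplicit false

namespace Cfsg.Agent.Spor.UFourThree

/-- Nine elements. -/
structure K9 where
  /-- the number -/
  v : Fin 9
deriving DecidableEq

namespace K9

/-- The element of a number. -/
def of (n : ℕ) : K9 := ⟨Fin.ofNat 9 n⟩

instance : Fintype K9 := Fintype.ofEquiv (Fin 9) ⟨K9.mk, K9.v, fun _ => rfl, fun _ => rfl⟩

instance : Zero K9 := ⟨of 0⟩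
instance : One K9 := ⟨of 1⟩
instance : Add K9 := ⟨fun a b => of ((a.v.1 % 3 + b.v.1 % 3) % 3 + 3 * ((a.v.1 / 3 + b.v.1 / 3) % 3))⟩
instance : Mul K9 := ⟨fun a b => of ((a.v.1 % 3 * (b.v.1 % 3) + 2 * (a.v.1 / 3) * (b.v.1 / 3)) % 3 +
  3 * ((a.v.1 % 3 * (b.v.1 / 3) + a.v.1 / 3 * (b.v.1 % 3)) % 3))⟩
instance : Neg K9 := ⟨fun a => of ((3 - a.v.1 % 3) % 3 + 3 * ((3 - a.v.1 / 3) % 3))⟩
instance : Inv K9 := ⟨fun a => of ([0, 1, 2, 6, 5, 4, 3, 8, 7].getD a.v.1 0)⟩

instance : Field K9 :=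
  Field.ofMinimalAxioms K9 (by decide +kernel) (by decide +kernel) (by decide +kernel) (by decide +kernel)
    (by decide +kernel) (by decide +kernel) (by decide +kernel) (by decide +kernel) (by decide +kernel)
    ⟨0, 1, by decide +kernel⟩

theorem card_eq : Fintype.card K9 = 3 ^ 2 := rfl

theorem exists_of (a : K9) : ∃ n < 9, of n = a := ⟨a.v.1, a.v.2, congrArg K9.mk (Fin.ext (Nat.mod_eq_of_lt a.v.2))⟩

end K9

end Cfsg.Agent.Spor.UFourThree
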